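import Groth.Agent.S15351
import Groth.Agent.SubLocus.Conn
import Groth.Agent.ClosedRep.GeomIntegral
import Groth.Agent.Unibranch.SectionComp
import Groth.Agent.ConsEngine.Fiber
import Groth.Agent.GeomPtInt.Specialize
import Mathlib

/-!
# Open unions of connected components of smooth fibres
-/

set_option autoImplicit false
set_option linter.style.haveILetI false
set_option backward.isDefEq.respectTransparency false
set_option backward.isDefEq.respectTransparency.types false

universe u

open CategoryTheory AlgebraicGeometry Limits TopologicalSpace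

namespace Groth.Agent.SmComp

variable {X S : Scheme.{u}} (f : X ⟶ S)

/-- connected component of a point in its fibre -/
def comp (x : X) : Set X := connectedComponentIn (f.base ⁻¹' {f x}) x

theorem hom_eq_of_mem_comp {x y : X} (h : y ∈ comp f x) : f y = f x :=
  Set.mem_preimage.1 (connectedComponentIn_subset (f.base ⁻¹' {f x}) x h)

theorem comp_eq {x y : X} (h : y ∈ comp f x) : comp f y = comp f x := by
  rw [comp, hom_eq_of_mem_comp f h]
  exact (connectedComponentIn_eq h).symm

/-- components of smooth fibres are irreducible -/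
theorem isIrreducible_component [Smooth f] (y : S) (z : ↥(f.fiber y)) : IsIrreducible (connectedComponent z) := by
  haveI : Smooth (f.fiberToSpecResidueField y) := MorphismProperty.pullback_snd _ _ inferInstance
  haveI : IsLocallyNoetherian (f.fiber y) := LocallyOfFiniteType.isLocallyNoetherian (f.fiberToSpecResidueField y)
  refine SubLocus.isIrreducible_connectedComponent (fun w => ?_) z
  haveI := SmLocalST.isRegularLocalRing_stalk_of_smooth_field (k := (S.residueField y : Type u))
    (f.fiberToSpecResidueField y) w
  have : IsDomain ((f.fiber y).presheaf.stalk w) := Groth.Agent.S0558.result _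
  obtain ⟨U, hwU, hU⟩ := Groth.Agent.S2258.result (f.fiber y) w (by
    rw [nilradical_eq_zero]; exact Ideal.isPrime_bot)
  exact ⟨U, U.2, hU, hwU⟩

theorem comp_eq_image (y : S) (z : ↥(f.fiber y)) : comp f (f.fiberι y z) = f.fiberι y '' connectedComponent z := by
  rw [Unibranch.fiberι_image_connectedComponent, comp]
  rw [show f (f.fiberι y z) = y from Set.mem_preimage.1 ((f.range_fiberι y).le ⟨z, rfl⟩)]

/-- points in the open of section components give points in a common component -/
theorem mem_comp_of_mem_sectionComponents {T : Scheme.{u}} (q : T ⟶ S) (σ : T ⟶ pullback f q)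
    (hσ : σ ≫ pullback.snd f q = 𝟙 T) {w : ↥(pullback f q)}
    (hw : w ∈ MoreMor.sectionComponents (pullback.snd f q) σ) :
    pullback.fst f q w ∈ comp f (pullback.fst f q (σ (pullback.snd f q w))) := by
  set t := pullback.snd f q w
  have hσt : pullback.snd f q (σ t) = t := by
    rw [← Scheme.Hom.comp_apply, hσ]
    rfl
  have hfib : ∀ v, pullback.snd f q v = t → f (pullback.fst f q v) = q t := fun v hv => by
    rw [← Scheme.Hom.comp_apply, pullback.condition, Scheme.Hom.comp_apply, hv]
  have hw' : w ∈ connectedComponentIn ((pullback.snd f q).base ⁻¹' {t}) (σ t) := hw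
  refine ((isPreconnected_connectedComponentIn (F := (pullback.snd f q).base ⁻¹' {t}) (x := σ t)).image _
    (pullback.fst f q).continuous.continuousOn).subset_connectedComponentIn
    ⟨σ t, mem_connectedComponentIn hσt, rfl⟩ ?_ ⟨w, hw', rfl⟩
  rintro _ ⟨v, hv, rfl⟩
  show f (pullback.fst f q v) = f (pullback.fst f q (σ t))
  rw [hfib v (connectedComponentIn_subset ((pullback.snd f q).base ⁻¹' {t}) (σ t) hv), hfib _ hσt]

/-- the union of the components meeting a subset -/
def meet (A : Set X) : Set X := {x | ∃ a ∈ A, x ∈ comp f a}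

variable [Smooth f] [QuasiSeparated f]

/-- An open set inside the components through the image of a universally open family. -/
theorem exists_open_through {T : Scheme.{u}} [IsAffine T] (t : T ⟶ X) [UniversallyOpen (t ≫ f)] :
    ∃ O : Set X, IsOpen O ∧ Set.range t ⊆ O ∧ O ⊆ meet f (Set.range t) := by
  let q := t ≫ f
  let σ : T ⟶ pullback f q := pullback.lift t (𝟙 T) (by rw [Category.id_comp])
  have hσ : σ ≫ pullback.snd f q = 𝟙 T := pullback.lift_snd _ _ _
  haveI : Smooth (pullback.snd f q) := MorphismProperty.pullback_snd _ _ inferInstance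
  haveI : QuasiSeparated (pullback.snd f q) := MorphismProperty.pullback_snd _ _ inferInstance
  haveI : QuasiSeparatedSpace ↥(pullback f q) := quasiSeparatedSpace_of_quasiSeparated (pullback.snd f q)
  haveI : UniversallyOpen (pullback.fst f q) := MorphismProperty.pullback_fst _ _ inferInstance
  refine ⟨_, (pullback.fst f q).isOpenMap _ (S15351.result (pullback.snd f q) σ hσ), ?_, ?_⟩
  · rintro _ ⟨a, rfl⟩
    have hσa : pullback.snd f q (σ a) = a := by rw [← Scheme.Hom.comp_apply, hσ]; rfl
    refine ⟨σ a, ?_, by rw [← Scheme.Hom.comp_apply, pullback.lift_fst]⟩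
    show σ a ∈ connectedComponentIn ((pullback.snd f q).base ⁻¹' {(pullback.snd f q).base (σ a)})
      (σ.base ((pullback.snd f q).base (σ a)))
    rw [show (pullback.snd f q).base (σ a) = a from hσa]
    exact mem_connectedComponentIn hσa
  · rintro _ ⟨w, hw, rfl⟩
    refine ⟨_, ⟨pullback.snd f q w, rfl⟩, ?_⟩
    have h := mem_comp_of_mem_sectionComponents f q σ hσ hw
    rwa [← Scheme.Hom.comp_apply σ, pullback.lift_fst] at h

/-- **The union of the components meeting the image of a universally open family is open.** -/
theorem isOpen_meet {S' : Scheme.{u}} (e : S' ⟶ X) [UniversallyOpen (e ≫ f)] : IsOpen (meet f (Set.range e)) := by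
  rw [isOpen_iff_forall_mem_open]
  rintro x ⟨_, ⟨s', rfl⟩, hx⟩
  -- an open inside the union around the marked point
  obtain ⟨A, hA, hs'A, -⟩ := exists_isAffineOpen_mem_and_subset (show s' ∈ (⊤ : S'.Opens) from trivial)
  haveI : IsAffine (A : Scheme.{u}) := hA
  haveI : UniversallyOpen ((A.ι ≫ e) ≫ f) := by rw [Category.assoc]; infer_instance
  obtain ⟨O, hO, hOr, hOm⟩ := exists_open_through f (A.ι ≫ e)
  have hsO : e s' ∈ O := hOr ⟨⟨s', hs'A⟩, rfl⟩
  have hOe : O ⊆ meet f (Set.range e) := fun y hy => by
    obtain ⟨_, ⟨a, rfl⟩, hya⟩ := hOm hy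
    exact ⟨_, ⟨A.ι a, rfl⟩, hya⟩
  -- the component of the diagonal over a neighbourhood of the point
  obtain ⟨B, hB, hxB, -⟩ := exists_isAffineOpen_mem_and_subset (show x ∈ (⊤ : X.Opens) from trivial)
  haveI : IsAffine (B : Scheme.{u}) := hB
  let q := B.ι ≫ f
  let σ : (B : Scheme.{u}) ⟶ pullback f q := pullback.lift B.ι (𝟙 _) (by rw [Category.id_comp])
  have hσ : σ ≫ pullback.snd f q = 𝟙 _ := pullback.lift_snd _ _ _
  haveI : Smooth (pullback.snd f q) := MorphismProperty.pullback_snd _ _ inferInstance
  haveI : QuasiSeparated (pullback.snd f q) := MorphismProperty.pullback_snd _ _ inferInstance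
  haveI : QuasiSeparatedSpace ↥(pullback f q) := quasiSeparatedSpace_of_quasiSeparated (pullback.snd f q)
  haveI : Smooth q := inferInstance
  haveI : Smooth (pullback.fst f q) := MorphismProperty.pullback_fst _ _ inferInstance
  have hW := S15351.result (pullback.snd f q) σ hσ
  let W := MoreMor.sectionComponents (pullback.snd f q) σ
  let b : (B : Scheme.{u}) := ⟨x, hxB⟩
  have hσb : pullback.snd f q (σ b) = b := by rw [← Scheme.Hom.comp_apply, hσ]; rfl
  have hfst : pullback.fst f q (σ b) = x := by
    rw [← Scheme.Hom.comp_apply, pullback.lift_fst]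
    rfl
  -- the part of `W` over the base point
  let Fb := connectedComponentIn ((pullback.snd f q).base ⁻¹' {b}) (σ b)
  have hFW : ∀ v ∈ Fb, v ∈ W := fun v hv => by
    show v ∈ connectedComponentIn ((pullback.snd f q).base ⁻¹' {(pullback.snd f q).base v})
      (σ.base ((pullback.snd f q).base v))
    rw [show (pullback.snd f q).base v = b from
      connectedComponentIn_subset ((pullback.snd f q).base ⁻¹' {b}) (σ b) hv]
    exact hv
  have hsq : IsPullback (pullback.fst f q) (pullback.snd f q) f q := IsPullback.of_hasPullback f q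
  let m := ConsEngine.fiberBC hsq b
  haveI : Flat (Spec.map (q.residueFieldMap b)) :=
    (FlatMor.flat_surjective_spec_field_hom (K := (S.residueField (q b) : Type u))
      (q.residueFieldMap b).hom).1
  haveI : Flat m := MorphismProperty.of_isPullback (ConsEngine.isPullback_fiberBC hsq b).flip ‹_›
  obtain ⟨zb, hzb⟩ := ((pullback.snd f q).range_fiberι b).ge (show σ b ∈ (pullback.snd f q) ⁻¹' {b} from hσb)
  have hm : ∀ z, f.fiberι (q b) (m z) = pullback.fst f q ((pullback.snd f q).fiberι b z) := fun z =>
    (Scheme.Hom.comp_apply _ _ _).symm.trans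
      ((congrArg (fun k => k z) (ConsEngine.fiberBC_fiberι hsq b)).trans (Scheme.Hom.comp_apply _ _ _))
  have hmz : f.fiberι (q b) (m zb) = x := by rw [hm, hzb, hfst]
  obtain ⟨gz, hgen⟩ := QuasiSober.sober (isIrreducible_component f (q b) (m zb)) isClosed_connectedComponent
  -- the generic point of the component is in the marked open
  have hgO : f.fiberι (q b) gz ∈ O := by
    have h1 : e s' ∈ f.fiberι (q b) '' connectedComponent (m zb) := by
      rw [← comp_eq_image, hmz, comp_eq f hx]
      exact mem_connectedComponentIn rfl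
    obtain ⟨a0, ha0, hae⟩ := h1
    exact ((hgen.specializes ha0).map (f.fiberι (q b)).continuous).mem_open hO (hae ▸ hsO)
  obtain ⟨w0, hw0, hmw0⟩ := Flat.generalizingMap m (hgen.specializes (mem_connectedComponent (x := m zb)))
  let w := (pullback.snd f q).fiberι b w0
  have hwW : w ∈ W := hFW _ (by
    have h1 : w0 ∈ connectedComponent zb := by
      have hpair : _root_.IsPreconnected ({w0, zb} : Set ↥((pullback.snd f q).fiber b)) :=
        isPreconnected_singleton.subset_closure (Set.singleton_subset_iff.2 (Or.inl rfl)) (by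
          rintro z (rfl | rfl)
          · exact subset_closure rfl
          · exact hw0.mem_closure)
      exact hpair.subset_connectedComponent (Or.inr rfl) (Or.inl rfl)
    have h2 := Set.mem_image_of_mem ((pullback.snd f q).fiberι b) h1
    rw [Unibranch.fiberι_image_connectedComponent, hzb] at h2
    exact h2)
  have hwO : pullback.fst f q w ∈ O := by rw [← hm, hmw0]; exact hgO
  -- the open neighbourhood
  refine ⟨B.ι '' ((pullback.snd f q).base '' (W ∩ (pullback.fst f q).base ⁻¹' O)), ?_,
    B.ι.isOpenEmbedding.isOpenMap _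
      ((pullback.snd f q).isOpenMap _ (hW.inter (hO.preimage (pullback.fst f q).continuous))),
    ⟨b, ⟨w, ⟨hwW, hwO⟩, ?_⟩, rfl⟩⟩
  · rintro _ ⟨_, ⟨v, ⟨hv, hvO⟩, rfl⟩, rfl⟩
    obtain ⟨a, ha, hav⟩ := hOe hvO
    have h := mem_comp_of_mem_sectionComponents f q σ hσ hv
    rw [← Scheme.Hom.comp_apply σ, pullback.lift_fst] at h
    refine ⟨a, ha, ?_⟩
    rw [← comp_eq f hav, comp_eq f h]
    exact mem_connectedComponentIn rfl
  · exact Set.mem_preimage.1 (((pullback.snd f q).range_fiberι b).le ⟨w0, rfl⟩)

end Groth.Agent.SmComp
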